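import Cfsg.Agent.Lib.SectRank.CenterPair

/-!
A non-abelian subgroup with centre of order two which is normal in the centraliser of that centre,
inside a 2-group of sectional rank at most four.
-/

set_option autoImplicit false
set_option linter.style.haveILetI false

open scoped commutatorElement

namespace CfsgLib.CenterPair

universe u v

variable {S : Type u} [Group S] [Finite S]

omit [Finite S] in
/-- An elementary abelian quotient of an embedded group is bounded by the sectional rank. -/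
theorem card_le_of_embedded {r : ℕ} (hr : Cfsg.SectionalPRankLE 2 r S) {D V : Type v} [Group D]
    [Group V] (f : D →* S) (hf : Function.Injective f) (ψ : D →* V) (hψ : Function.Surjective ψ)
    (hc : ∀ a b : V, a * b = b * a) (he : ∀ a : V, a ^ 2 = 1) : Nat.card V ≤ 2 ^ r := by
  let e := MonoidHom.ofInjective hf
  let χ : f.range →* V := ψ.comp e.symm.toMonoidHom
  have hχ : Function.Surjective χ := hψ.comp e.symm.surjective
  let q := QuotientGroup.quotientKerEquivOfSurjective χ hχ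
  have h := hr f.range χ.ker ⊤
    (.of_comm fun a b => Subtype.ext (q.injective (by
      rw [Subgroup.coe_mul, Subgroup.coe_mul, map_mul, map_mul, hc])))
    (fun a _ => q.injective (by rw [map_pow, he, map_one]))
  rwa [Subgroup.card_top, Nat.card_congr q.toEquiv] at h

omit [Finite S] in
theorem sectional_subgroup {r : ℕ} (hr : Cfsg.SectionalPRankLE 2 r S) (T : Subgroup S) :
    Cfsg.SectionalPRankLE 2 r T := by
  intro H K hK A hA hexp
  haveI := hA
  exact card_le_of_embedded hr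
    ((T.subtype.comp H.subtype).comp (A.comap (QuotientGroup.mk' K)).subtype)
    (Subtype.val_injective.comp (Subtype.val_injective.comp Subtype.val_injective))
    ((QuotientGroup.mk' K).subgroupComap A)
    (MonoidHom.subgroupComap_surjective_of_surjective _ _ (QuotientGroup.mk'_surjective K))
    (fun a b => mul_comm' a b) (fun a => Subtype.ext (by simpa using hexp a a.2))

omit [Finite S] in
theorem center_subgroupOf {P T : Subgroup S} (h : P ≤ T) :
    Nat.card (Subgroup.center (P.subgroupOf T)) = Nat.card (Subgroup.center P) :=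
  Nat.card_congr (Subgroup.centerCongr (Subgroup.subgroupOfEquivOfLe h)).toEquiv

omit [Finite S] in
/-- The non-trivial element of a centre of order two. -/
theorem exists_central {P : Subgroup S} (hZ : Nat.card (Subgroup.center P) = 2) :
    ∃ z ∈ P, z ≠ 1 ∧ z * z = 1 ∧ (∀ x ∈ P, x * z = z * x) ∧
      (∀ a ∈ P, (∀ x ∈ P, x * a = a * x) → a = 1 ∨ a = z) := by
  haveI : Finite (Subgroup.center P) := Nat.finite_of_card_ne_zero (by omega)
  haveI : Nontrivial (Subgroup.center P) := Finite.one_lt_card_iff_nontrivial.mp (by omega)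
  obtain ⟨⟨⟨z, hzP⟩, hzc⟩, hz1⟩ := exists_ne (1 : Subgroup.center P)
  have hcomm : ∀ x ∈ P, x * z = z * x := fun x hx =>
    congrArg Subtype.val (Subgroup.mem_center_iff.mp hzc ⟨x, hx⟩)
  have hz0 : z ≠ 1 := fun h => hz1 (Subtype.ext (Subtype.ext h))
  refine ⟨z, hzP, hz0, ?_, hcomm, fun a ha hac => ?_⟩
  · have := pow_card_eq_one' (x := (⟨⟨z, hzP⟩, hzc⟩ : Subgroup.center P))
    rw [hZ, pow_two] at this
    exact congrArg (fun t : Subgroup.center P => ((t : P) : S)) this
  · rcases eq_or_ne a 1 with rfl | ha1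
    · exact Or.inl rfl
    · exact Or.inr (eq_one_or_eq hZ
        ⟨⟨a, ha⟩, Subgroup.mem_center_iff.mpr fun g => Subtype.ext (hac g g.2), rfl⟩
        ⟨⟨z, hzP⟩, hzc, rfl⟩ ha1 hz0)

/-- Two subgroups normal in a common subgroup `T`, with different central involutions. -/
theorem pair_in (h2 : IsPGroup 2 S) (hr : Cfsg.SectionalPRankLE 2 4 S) (T P Q : Subgroup S)
    (hPT : P ≤ T) (hQT : Q ≤ T) (hPn : ∀ s ∈ T, ∀ x ∈ P, s * x * s⁻¹ ∈ P)
    (hQn : ∀ s ∈ T, ∀ x ∈ Q, s * x * s⁻¹ ∈ Q) (hP : ¬ IsMulCommutative P) (hQ : ¬ IsMulCommutative Q)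
    (hZP : Nat.card (Subgroup.center P) = 2) (hZQ : Nat.card (Subgroup.center Q) = 2) {z w : S}
    (hz : z ∈ P) (hz1 : z ≠ 1) (hzc : ∀ x ∈ P, x * z = z * x) (hw : w ∈ Q) (hw1 : w ≠ 1)
    (hwc : ∀ x ∈ Q, x * w = w * x) (hzw : z ≠ w) :
    (∀ a ∈ P, ∀ b ∈ Q, a * b = b * a) ∧ (∀ a ∈ P, a ∈ Q → a = 1) ∧
      ∀ c ∈ T, (∀ x ∈ P, x * c = c * x) → (∀ x ∈ Q, x * c = c * x) →
        ∃ a ∈ P, ∃ b ∈ Q, a * b = c := by
  haveI : (P.subgroupOf T).Normal := ⟨fun x hx g => hPn g g.2 x hx⟩
  haveI : (Q.subgroupOf T).Normal := ⟨fun x hx g => hQn g g.2 x hx⟩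
  have nc : ∀ {R : Subgroup S}, R ≤ T → ¬ IsMulCommutative R → ¬ IsMulCommutative (R.subgroupOf T) :=
    fun {R} hR h h' => h (.of_comm fun a b => Subtype.ext (by
      have := congrArg (fun t : R.subgroupOf T => ((t : T) : S))
        (mul_comm' (⟨⟨a, hR a.2⟩, a.2⟩ : R.subgroupOf T) ⟨⟨b, hR b.2⟩, b.2⟩)
      simpa using this))
  have hne : (Subgroup.center (P.subgroupOf T)).map (P.subgroupOf T).subtype ≠
      (Subgroup.center (Q.subgroupOf T)).map (Q.subgroupOf T).subtype := by
    intro h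
    have h1 : (⟨z, hPT hz⟩ : T) ∈ (Subgroup.center (P.subgroupOf T)).map (P.subgroupOf T).subtype :=
      ⟨⟨⟨z, hPT hz⟩, hz⟩, Subgroup.mem_center_iff.mpr fun g =>
        Subtype.ext (Subtype.ext (hzc _ g.2)), rfl⟩
    rw [h] at h1
    exact hzw (congrArg Subtype.val (eq_one_or_eq (by rw [center_subgroupOf hQT, hZQ]) h1
      ⟨⟨⟨w, hQT hw⟩, hw⟩, Subgroup.mem_center_iff.mpr fun g =>
        Subtype.ext (Subtype.ext (hwc _ g.2)), rfl⟩
      (fun h0 => hz1 (congrArg Subtype.val h0)) (fun h0 => hw1 (congrArg Subtype.val h0))))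
  have hZP' : Nat.card (Subgroup.center (P.subgroupOf T)) = 2 := by rw [center_subgroupOf hPT, hZP]
  have hZQ' : Nat.card (Subgroup.center (Q.subgroupOf T)) = 2 := by rw [center_subgroupOf hQT, hZQ]
  have hT := h2.to_subgroup T
  have hd := inf_eq_bot hT _ _ hZP' hZQ' hne
  have hcomm := commutator_eq_bot hT _ _ hZP' hZQ' hne
  have hC := centralizer_sup_le hT (sectional_subgroup hr T) _ _ (nc hPT hP) (nc hQT hQ) hZP' hZQ' hne
  have hcom : ∀ a ∈ P, ∀ b ∈ Q, a * b = b * a := fun a ha b hb => by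
    have h1 : ⁅(⟨a, hPT ha⟩ : T), (⟨b, hQT hb⟩ : T)⁆ ∈ (⊥ : Subgroup T) := hcomm ▸
      Subgroup.commutator_mem_commutator (H₁ := P.subgroupOf T) (H₂ := Q.subgroupOf T) ha hb
    exact congrArg Subtype.val (commutatorElement_eq_one_iff_mul_comm.mp (Subgroup.mem_bot.mp h1))
  refine ⟨hcom, fun a ha hb => ?_, fun c hc hcP hcQ => ?_⟩
  · have h1 : (⟨a, hPT ha⟩ : T) ∈ P.subgroupOf T ⊓ Q.subgroupOf T := ⟨ha, hb⟩
    rw [hd, Subgroup.mem_bot] at h1
    exact congrArg Subtype.val h1
  · have h1 : (⟨c, hc⟩ : T) ∈ Subgroup.centralizer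
        ((P.subgroupOf T ⊔ Q.subgroupOf T : Subgroup T) : Set T) := by
      intro t ht
      rw [Subgroup.mul_normal (P.subgroupOf T) (Q.subgroupOf T)] at ht
      obtain ⟨a, ha, b, hb, rfl⟩ := ht
      exact Commute.mul_left (show Commute a (⟨c, hc⟩ : T) from Subtype.ext (hcP a ha))
        (show Commute b (⟨c, hc⟩ : T) from Subtype.ext (hcQ b hb))
    have h3 := hC h1
    rw [← SetLike.mem_coe, Subgroup.mul_normal (P.subgroupOf T) (Q.subgroupOf T)] at h3
    obtain ⟨a, ha, b, hb, hab⟩ := h3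
    exact ⟨a, ha, b, hb, congrArg Subtype.val hab⟩

/-- The sectional rank of a factor of a product of two commuting non-abelian subgroups. -/
theorem sectional_two (h2 : IsPGroup 2 S) (hr : Cfsg.SectionalPRankLE 2 4 S) (P Q : Subgroup S)
    (hQ : ¬ IsMulCommutative Q) (hcom : ∀ a ∈ P, ∀ b ∈ Q, a * b = b * a)
    (hd : ∀ a ∈ P, a ∈ Q → a = 1) : Cfsg.SectionalPRankLE 2 2 P := by
  intro H K hK A hA hexp
  haveI := hA
  let D := A.comap (QuotientGroup.mk' K) × Q
  let f : D →* S :=
    { toFun := fun v => (((v.1 : H) : P) : S) * v.2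
      map_one' := by simp
      map_mul' := fun u v => by
        show ((((u.1 * v.1 : A.comap (QuotientGroup.mk' K)) : H) : P) : S) * ((u.2 * v.2 : Q) : S) = _
        simp only [Subgroup.coe_mul]
        rw [mul_assoc, ← mul_assoc ((((v.1 : H) : P) : S)), hcom _ (((v.1 : H) : P)).2 _ u.2.2]
        simp only [mul_assoc] }
  have hf : Function.Injective f := by
    rw [injective_iff_map_eq_one]
    intro v hv
    have h1 : (((v.1 : H) : P) : S) = (v.2 : S)⁻¹ := eq_inv_of_mul_eq_one_left hv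
    have h3 := hd _ ((v.1 : H) : P).2 (h1 ▸ Q.inv_mem v.2.2)
    rw [h3] at h1
    exact Prod.ext (Subtype.ext (Subtype.ext (Subtype.ext h3))) (Subtype.ext (inv_eq_one.mp h1.symm))
  have hQ2 : IsPGroup 2 Q := h2.to_subgroup Q
  have hbound := card_le_of_embedded hr f hf
    (MonoidHom.prodMap ((QuotientGroup.mk' K).subgroupComap A) (QuotientGroup.mk' (frattini Q)))
    (Function.Surjective.prodMap
      (MonoidHom.subgroupComap_surjective_of_surjective _ _ (QuotientGroup.mk'_surjective K))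
      (QuotientGroup.mk'_surjective _))
    (fun a b => Prod.ext (mul_comm' a.1 b.1) (by
      obtain ⟨x, hx⟩ := QuotientGroup.mk_surjective a.2
      obtain ⟨y, hy⟩ := QuotientGroup.mk_surjective b.2
      rw [Prod.snd_mul, Prod.snd_mul, ← hx, ← hy, ← QuotientGroup.mk_mul, ← QuotientGroup.mk_mul,
        QuotientGroup.eq, show (x * y)⁻¹ * (y * x) = (y⁻¹) ^ 2 * (y * x⁻¹) ^ 2 * x ^ 2 by
          rw [pow_two, pow_two, pow_two]; group]
      exact mul_mem (mul_mem (pow_two_mem_frattini hQ2 _) (pow_two_mem_frattini hQ2 _))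
        (pow_two_mem_frattini hQ2 _)))
    (fun a => Prod.ext (Subtype.ext (by simpa using hexp a.1 a.1.2)) (by
      obtain ⟨x, hx⟩ := QuotientGroup.mk_surjective a.2
      rw [Prod.pow_snd, ← hx, ← QuotientGroup.mk_pow, Prod.snd_one, QuotientGroup.eq_one_iff]
      exact pow_two_mem_frattini hQ2 x))
  rw [Nat.card_prod] at hbound
  have b4 := (four_le_card_quotient hQ).resolve_right (fun h => h hQ2)
  nlinarith

/-- The main statement. -/
theorem centralizer_index_two (h2 : IsPGroup 2 S) (hr : Cfsg.SectionalPRankLE 2 4 S) (P : Subgroup S)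
    (hP : ¬ IsMulCommutative P) (hZP : Nat.card (Subgroup.center P) = 2) (S₀ : Subgroup S)
    (hS₀ : S₀ = Subgroup.centralizer (((Subgroup.center P).map P.subtype : Subgroup S) : Set S))
    (hPn : ∀ s ∈ S₀, ∀ x ∈ P, s * x * s⁻¹ ∈ P) :
    S₀ = ⊤ ∨ (Cfsg.SectionalPRankLE 2 2 P ∧ S₀.index = 2) := by
  classical
  haveI := Fact.mk Nat.prime_two
  refine or_iff_not_imp_left.mpr fun htop => ?_
  obtain ⟨z, hzP, hz1, hzz, hzc, hzu⟩ := exists_central hZP
  have hmem : ∀ s : S, s ∈ S₀ ↔ s * z = z * s := fun s => by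
    rw [hS₀, Subgroup.mem_centralizer_iff]
    refine ⟨fun h => (h z ⟨⟨z, hzP⟩, Subgroup.mem_center_iff.mpr fun g => Subtype.ext (hzc g g.2),
      rfl⟩).symm, ?_⟩
    rintro h _ ⟨a, ha, rfl⟩
    rcases hzu a a.2 (fun x hx => congrArg Subtype.val (Subgroup.mem_center_iff.mp ha ⟨x, hx⟩))
      with h1 | h1
    · show (a : S) * s = s * a
      rw [h1, one_mul, mul_one]
    · show (a : S) * s = s * a
      rw [h1, h]
  have hPS : P ≤ S₀ := fun x hx => (hmem x).mpr (hzc x hx)
  haveI : Group.IsNilpotent S := h2.isNilpotent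
  set N := Subgroup.normalizer (S₀ : Set S) with hN
  obtain ⟨g, hgN, hg⟩ : ∃ g ∈ N, g ∉ S₀ :=
    SetLike.exists_of_lt ((Group.normalizerCondition_of_isNilpotent (G := S)) S₀
      (lt_top_iff_ne_top.mpr htop))
  -- conjugates of `P`
  let cP : S → Subgroup S := fun a => P.map (MulAut.conj a).toMonoidHom
  have cmem : ∀ a x, x ∈ cP a ↔ a⁻¹ * x * a ∈ P := fun a x => by
    constructor
    · rintro ⟨w, hw, rfl⟩; simpa [mul_assoc] using hw
    · intro h; exact ⟨_, h, by simp [mul_assoc]⟩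
  have cS : ∀ a ∈ N, cP a ≤ S₀ := fun a ha x hx => by
    have := (Subgroup.mem_normalizer_iff.mp ha _).mp (hPS ((cmem a x).mp hx))
    simpa [mul_assoc] using this
  have cn : ∀ a ∈ N, ∀ s ∈ S₀, ∀ x ∈ cP a, s * x * s⁻¹ ∈ cP a := by
    intro a ha s hs x hx
    rw [cmem] at hx ⊢
    have h1 : a⁻¹ * s * a ∈ S₀ := by
      have := (Subgroup.mem_normalizer_iff.mp (inv_mem ha) s).mp hs
      simpa using this
    have := hPn _ h1 _ hx
    simpa [mul_assoc] using this
  have cc : ∀ a, ¬ IsMulCommutative (cP a) := fun a h => hP (.of_comm fun x y => Subtype.ext (by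
    have h1 := congrArg Subtype.val (mul_comm'
      (⟨a * x * a⁻¹, (cmem a _).mpr (by simp [mul_assoc])⟩ : cP a)
      ⟨a * y * a⁻¹, (cmem a _).mpr (by simp [mul_assoc])⟩)
    simpa [mul_assoc] using congrArg (fun t : S => a⁻¹ * t * a) h1))
  have cZ : ∀ a, Nat.card (Subgroup.center (cP a)) = 2 := fun a => by
    rw [← Nat.card_congr (Subgroup.centerCongr
      (P.equivMapOfInjective (MulAut.conj a).toMonoidHom (MulAut.conj a).injective)).toEquiv, hZP]
  have cz : ∀ a, a * z * a⁻¹ ∈ cP a ∧ a * z * a⁻¹ ≠ 1 ∧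
      ∀ x ∈ cP a, x * (a * z * a⁻¹) = a * z * a⁻¹ * x := by
    refine fun a => ⟨(cmem a _).mpr (by simpa [mul_assoc] using hzP), fun h => hz1 ?_, fun x hx => ?_⟩
    · simpa [mul_assoc] using congrArg (fun t => a⁻¹ * t * a) h
    · have := hzc _ ((cmem a x).mp hx)
      have h1 := congrArg (fun t => a * t * a⁻¹) this
      simpa [mul_assoc] using h1
  have hne : ∀ a, a ∉ S₀ → z ≠ a * z * a⁻¹ := fun a ha h => ha ((hmem a).mpr
    (eq_mul_inv_iff_mul_eq.mp h).symm)
  set w := g * z * g⁻¹ with hw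
  obtain ⟨hcom, hdisj, hcent⟩ := pair_in h2 hr S₀ P (cP g) hPS (cS g hgN) hPn (cn g hgN) hP (cc g)
    hZP (cZ g) hzP hz1 hzc (cz g).1 (cz g).2.1 (cz g).2.2 (hne g hg)
  obtain ⟨w', hw'Q, -, -, -, hw'u⟩ := exists_central (cZ g)
  have hQu : ∀ b ∈ cP g, (∀ x ∈ cP g, x * b = b * x) → b = 1 ∨ b = w := by
    intro b hb hbc
    rcases hw'u b hb hbc with h | h
    · exact Or.inl h
    · rcases hw'u w (cz g).1 (cz g).2.2 with h' | h'
      · exact absurd h' (cz g).2.1
      · exact Or.inr (h.trans h'.symm)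
  -- an element centralising both conjugates lies among `1, z, w, z * w`
  have hfour : ∀ c : S, (∀ x ∈ P, x * c = c * x) → (∀ x ∈ cP g, x * c = c * x) →
      c = 1 ∨ c = z ∨ c = w ∨ c = z * w := by
    intro c hcP hcQ
    obtain ⟨a, ha, b, hb, rfl⟩ := hcent c ((hmem c).mpr (hcP z hzP).symm) hcP hcQ
    have ha' : ∀ x ∈ P, x * a = a * x := fun x hx => by
      have h1 := hcP x hx
      rw [← mul_assoc, mul_assoc a b, ← hcom x hx b hb, ← mul_assoc] at h1
      exact mul_right_cancel h1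
    have hb' : ∀ x ∈ cP g, x * b = b * x := fun x hx => by
      have h1 := hcQ x hx
      rw [← mul_assoc, ← hcom a ha x hx, mul_assoc, mul_assoc] at h1
      exact mul_left_cancel h1
    rcases hzu a ha ha' with rfl | rfl <;> rcases hQu b hb hb' with rfl | rfl <;> simp
  -- only one further coset in the normaliser
  have hcoset : ∀ a ∈ N, a ∉ S₀ → a * z * a⁻¹ = w := by
    intro a ha haS
    by_contra h
    obtain ⟨hcomP, -, -⟩ := pair_in h2 hr S₀ P (cP a) hPS (cS a ha) hPn (cn a ha) hP (cc a)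
      hZP (cZ a) hzP hz1 hzc (cz a).1 (cz a).2.1 (cz a).2.2 (hne a haS)
    obtain ⟨hcomQ, -, -⟩ := pair_in h2 hr S₀ (cP g) (cP a) (cS g hgN) (cS a ha) (cn g hgN) (cn a ha)
      (cc g) (cc a) (cZ g) (cZ a) (cz g).1 (cz g).2.1 (cz g).2.2 (cz a).1 (cz a).2.1 (cz a).2.2
      (Ne.symm h)
    refine cc a (.of_comm fun x y => Subtype.ext ?_)
    obtain ⟨p, hp, q, hq, hpq⟩ := hcent x (cS a ha x.2) (fun u hu => hcomP u hu x x.2)
      (fun u hu => hcomQ u hu x x.2)
    show (x : S) * y = y * x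
    rw [← hpq]
    exact Commute.mul_left (hcomP p hp y y.2) (hcomQ q hq y y.2)
  have hgw : g * w * g⁻¹ = z := by
    by_cases hgg : g * g ∈ S₀
    · have h1 := (hmem _).mp hgg
      rw [hw]
      calc g * (g * z * g⁻¹) * g⁻¹ = (g * g) * z * (g⁻¹ * g⁻¹) := by group
        _ = z * (g * g) * (g⁻¹ * g⁻¹) := by rw [h1]
        _ = z := by group
    · have h1 := hcoset (g * g) (mul_mem hgN hgN) hgg
      exfalso
      apply hg
      rw [hmem]
      have h3 : g * z * g⁻¹ = z := by
        have := congrArg (fun t => g⁻¹ * t * g) h1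
        simpa [hw, mul_assoc] using this
      exact mul_inv_eq_iff_eq_mul.mp h3
  have hzw : z * w = w * z := hcom z hzP w (cz g).1
  -- `z * w` is central in the normaliser
  have hu : ∀ a ∈ N, a * (z * w) * a⁻¹ = z * w := by
    have key : ∀ a ∈ N, a * w * a⁻¹ = if a * z * a⁻¹ = z then w else z := by
      intro a ha
      have e1 : a * w * a⁻¹ = (a * g) * z * (a * g)⁻¹ := by rw [hw]; group
      by_cases hag : a * g ∈ S₀
      · have h1 : (a * g) * z * (a * g)⁻¹ = z := by rw [(hmem _).mp hag, mul_inv_cancel_right]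
        rw [e1, h1, if_neg]
        intro h
        have haS : a ∈ S₀ := (hmem a).mpr (mul_inv_eq_iff_eq_mul.mp h)
        exact hg (by simpa using mul_mem (inv_mem haS) hag)
      · rw [e1, hcoset _ (mul_mem ha hgN) hag, if_pos]
        by_contra h
        have haS : a ∉ S₀ := fun h' => h (by rw [(hmem a).mp h', mul_inv_cancel_right])
        have h1 := hcoset _ (mul_mem ha hgN) hag
        have h3 := hcoset a ha haS
        rw [← h3] at h1
        refine hg ((hmem g).mpr (mul_inv_eq_iff_eq_mul.mp ?_))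
        have := congrArg (fun t => a⁻¹ * t * a) h1
        simpa [mul_assoc] using this
    intro a ha
    have e : a * (z * w) * a⁻¹ = (a * z * a⁻¹) * (a * w * a⁻¹) := by group
    rw [e, key a ha]
    split_ifs with h
    · rw [h]
    · rw [hcoset a ha (fun haS => h (by rw [(hmem a).mp haS, mul_inv_cancel_right])), hzw]
  have hu1 : z * w ≠ 1 := fun h => hne g hg (by
    rw [← hw]; exact mul_left_cancel (hzz.trans h.symm))
  -- the normaliser is everything
  have hNtop : N = ⊤ := by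
    by_contra hNne
    obtain ⟨h, hh, hhN⟩ := SetLike.exists_of_lt
      ((Group.normalizerCondition_of_isNilpotent (G := S)) N (lt_top_iff_ne_top.mpr hNne))
    have hconj : ∀ a ∈ N, h * a * h⁻¹ ∈ N := fun a ha => (Subgroup.mem_normalizer_iff.mp hh a).mp ha
    have hconj' : ∀ a ∈ N, h⁻¹ * a * h ∈ N := fun a ha => by
      have := (Subgroup.mem_normalizer_iff.mp (inv_mem hh) a).mp ha
      simpa using this
    have hPN : ∀ x ∈ P, x ∈ N := fun x hx => Subgroup.le_normalizer (hPS hx)
    have hQN : ∀ x ∈ cP g, x ∈ N := fun x hx => Subgroup.le_normalizer (cS g hgN hx)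
    have hwN : ∀ a ∈ N, a * z * a⁻¹ = z ∨ a * z * a⁻¹ = w := fun a ha => by
      by_cases haS : a ∈ S₀
      · exact Or.inl (by rw [(hmem a).mp haS, mul_inv_cancel_right])
      · exact Or.inr (hcoset a ha haS)
    obtain ⟨z₂, hz₂⟩ : ∃ t : S, t = h * z * h⁻¹ := ⟨_, rfl⟩
    have hz₂N : z₂ ∈ N := hz₂ ▸ hconj z (hPN z hzP)
    have hstar : h * (z * w) * h⁻¹ = z * w := by
      have hc : ∀ a ∈ N, a * (h * (z * w) * h⁻¹) = h * (z * w) * h⁻¹ * a := by
        intro a ha
        have h1 := mul_inv_eq_iff_eq_mul.mp (hu _ (hconj' a ha))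
        calc a * (h * (z * w) * h⁻¹) = h * ((h⁻¹ * a * h) * (z * w)) * h⁻¹ := by group
          _ = h * ((z * w) * (h⁻¹ * a * h)) * h⁻¹ := by rw [h1]
          _ = _ := by group
      rcases hfour _ (fun x hx => hc x (hPN x hx)) (fun x hx => hc x (hQN x hx)) with e | e | e | e
      · exact absurd (conj_eq_one_iff.mp e) hu1
      · exact absurd ((hmem g).mpr (e ▸ hc g hgN)) hg
      · exfalso
        have h1 := hc g hgN
        rw [e] at h1
        refine hne g hg ?_
        rw [← hw]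
        calc z = g * w * g⁻¹ := hgw.symm
          _ = w := by rw [h1, mul_inv_cancel_right]
      · exact e
    -- conjugates of the new involution
    have hswap : ∀ a ∈ N, a * z₂ * a⁻¹ = z₂ ∨ a * z₂ * a⁻¹ = z₂ * (z * w) := by
      intro a ha
      have e1 : a * z₂ * a⁻¹ = h * ((h⁻¹ * a * h) * z * (h⁻¹ * a * h)⁻¹) * h⁻¹ := by
        rw [hz₂]; group
      rcases hwN _ (hconj' a ha) with e | e
      · exact Or.inl (by rw [e1, e, hz₂])
      · refine Or.inr ?_
        rw [e1, e, ← hstar, hz₂]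
        calc h * w * h⁻¹ = h * ((z * z) * w) * h⁻¹ := by rw [hzz, one_mul]
          _ = _ := by group
    by_cases hzS : z₂ ∈ S₀
    · have hcP : ∀ x ∈ P, x * z₂ = z₂ * x := by
        intro x hx
        rcases hswap x (hPN x hx) with e | e
        · exact mul_inv_eq_iff_eq_mul.mp e
        · exfalso
          have h1 : (z₂⁻¹ * x * z₂⁻¹⁻¹) * x⁻¹ ∈ P :=
            P.mul_mem (hPn _ (inv_mem hzS) x hx) (inv_mem hx)
          have h3 : (z₂⁻¹ * x * z₂⁻¹⁻¹) * x⁻¹ = z₂⁻¹ * (x * z₂ * x⁻¹) := by group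
          rw [h3, e, inv_mul_cancel_left] at h1
          exact (cz g).2.1 (hdisj w (by simpa [← mul_assoc, hzz] using P.mul_mem hzP h1) (cz g).1)
      have hcQ : ∀ x ∈ cP g, x * z₂ = z₂ * x := by
        intro x hx
        rcases hswap x (hQN x hx) with e | e
        · exact mul_inv_eq_iff_eq_mul.mp e
        · exfalso
          have h1 : (z₂⁻¹ * x * z₂⁻¹⁻¹) * x⁻¹ ∈ cP g :=
            (cP g).mul_mem (cn g hgN _ (inv_mem hzS) x hx) (inv_mem hx)
          have h3 : (z₂⁻¹ * x * z₂⁻¹⁻¹) * x⁻¹ = z₂⁻¹ * (x * z₂ * x⁻¹) := by group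
          rw [h3, e, inv_mul_cancel_left] at h1
          refine hz1 (hdisj z hzP ?_)
          have := (cP g).mul_mem h1 ((cP g).inv_mem (cz g).1)
          rwa [mul_inv_cancel_right] at this
      rcases hfour z₂ hcP hcQ with e | e | e | e <;> rw [hz₂] at e
      · exact hz1 (conj_eq_one_iff.mp e)
      · -- `h` would normalise `S₀`
        refine hhN ?_
        refine Subgroup.le_normalizer ((hmem h).mpr ?_)
        exact mul_inv_eq_iff_eq_mul.mp e
      · refine hhN ?_
        have h1 : g⁻¹ * h ∈ S₀ := (hmem _).mpr (by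
          have h3 : h * z * h⁻¹ = g * z * g⁻¹ := e
          calc g⁻¹ * h * z = g⁻¹ * (h * z * h⁻¹) * h := by group
            _ = g⁻¹ * (g * z * g⁻¹) * h := by rw [h3]
            _ = _ := by group)
        have := mul_mem hgN (Subgroup.le_normalizer h1 : g⁻¹ * h ∈ N)
        simpa using this
      · refine hne g hg ?_
        rw [← hw]
        have h1 : h * z * h⁻¹ = h * (z * w) * h⁻¹ := by rw [hstar]; exact e
        have h3 : z = z * w := mul_left_cancel (mul_right_cancel h1)
        exact absurd (mul_eq_left.mp h3.symm) (cz g).2.1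
    · -- `z₂` interchanges the two conjugates
      apply hP
      have hinv : z₂ * z₂ = 1 := by
        rw [hz₂]
        calc h * z * h⁻¹ * (h * z * h⁻¹) = h * (z * z) * h⁻¹ := by group
          _ = 1 := by rw [hzz, mul_one, mul_inv_cancel]
      have hz₂inv : z₂⁻¹ = z₂ := inv_eq_of_mul_eq_one_left hinv
      have hsq : ∀ x ∈ P, x * x = 1 := by
        intro x hx
        have hxN := hPN x hx
        have hy : z₂ * x⁻¹ * z₂ ∈ cP g := by
          rw [cmem]
          have hgz : g⁻¹ * z₂ ∈ S₀ := (hmem _).mpr (by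
            have h3 := hcoset z₂ hz₂N hzS
            calc g⁻¹ * z₂ * z = g⁻¹ * (z₂ * z * z₂⁻¹) * z₂ := by group
              _ = g⁻¹ * (g * z * g⁻¹) * z₂ := by rw [h3, hw]
              _ = _ := by group)
          have := hPn _ hgz _ (inv_mem hx)
          rw [mul_inv_rev, inv_inv, hz₂inv] at this
          simpa [mul_assoc] using this
        -- `x * y` is fixed by `z₂`
        have hd : z₂ * (x * (z₂ * x⁻¹ * z₂)) * z₂ = x * (z₂ * x⁻¹ * z₂) := by
          have e2 : x * (z₂ * x⁻¹ * z₂) = (x * z₂ * x⁻¹) * z₂ := by group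
          rw [e2]
          rcases hswap x hxN with e | e
          · rw [e, hinv, mul_one, hinv]
          · rw [e]
            have h1 := hu z₂ hz₂N
            rw [hz₂inv] at h1
            rw [h1]
            exact h1
        have hd' : (z₂ * x * z₂) * x⁻¹ = x * (z₂ * x⁻¹ * z₂) := by
          rw [← hd]
          calc z₂ * x * z₂ * x⁻¹ = z₂ * x * z₂ * x⁻¹ * (z₂ * z₂) := by rw [hinv, mul_one]
            _ = _ := by simp only [mul_assoc]
        have hzx : z₂ * x * z₂ = (z₂ * x⁻¹ * z₂)⁻¹ := by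
          rw [mul_inv_rev, mul_inv_rev, inv_inv, hz₂inv, mul_assoc]
        rw [hzx] at hd'
        set y := z₂ * x⁻¹ * z₂
        have h5 : x * x = (y * y)⁻¹ := by
          have hxy := hcom x hx y hy
          have h6 : y⁻¹ * x⁻¹ = x * y := hd'
          refine eq_inv_of_mul_eq_one_left ?_
          calc x * x * (y * y) = x * (x * y) * y := by group
            _ = x * (y * x) * y := by rw [hxy]
            _ = (x * y) * (x * y) := by group
            _ = (x * y) * (y⁻¹ * x⁻¹) := by rw [h6]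
            _ = 1 := by group
        exact hdisj _ (mul_mem hx hx) (h5 ▸ (cP g).inv_mem ((cP g).mul_mem hy hy))
      refine .of_comm fun a b => Subtype.ext ?_
      have hab := hsq _ (P.mul_mem a.2 b.2)
      calc (a : S) * b = (a : S) * b * ((b : S) * b) * ((a : S) * a) := by
            rw [hsq b b.2, hsq a a.2, mul_one, mul_one]
        _ = ((a : S) * b * b) * b * a * a := by group
        _ = (b : S) * a := by
            have e1 : ((a : S) * b)⁻¹ = (a : S) * b := inv_eq_of_mul_eq_one_left hab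
            have e2 : (a : S)⁻¹ = a := inv_eq_of_mul_eq_one_left (hsq a a.2)
            have e3 : (b : S)⁻¹ = b := inv_eq_of_mul_eq_one_left (hsq b b.2)
            rw [mul_inv_rev, e2, e3] at e1
            rw [mul_assoc ((a : S)) b b, hsq b b.2, mul_one, mul_assoc _ (a : S) (a : S), hsq a a.2,
              mul_one, e1]
  refine ⟨sectional_two h2 hr P (cP g) (cc g) hcom hdisj, ?_⟩
  refine Subgroup.index_eq_two_iff.mpr ⟨g, fun a => ?_⟩
  by_cases ha : a ∈ S₀
  · exact Or.inr ⟨ha, fun h => hg (by simpa using mul_mem (inv_mem ha) h)⟩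
  · refine Or.inl ⟨?_, ha⟩
    rw [hmem]
    by_contra h
    have haN : a * g ∈ N := by rw [hNtop]; trivial
    have h1 := hcoset (a * g) haN (fun h' => h ((hmem _).mp h'))
    have h3 := hcoset a (by rw [hNtop]; trivial) ha
    rw [← h3] at h1
    refine hg ((hmem g).mpr (mul_inv_eq_iff_eq_mul.mp ?_))
    have := congrArg (fun t => a⁻¹ * t * a) h1
    simpa [mul_assoc] using this

end CfsgLib.CenterPair
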