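import Cfsg.Prelude.Def_CaseTheorems

/-!
Two normal non-abelian subgroups with different centres of order two in a 2-group of sectional
rank at most four.
-/

set_option autoImplicit false
set_option linter.style.haveILetI false

open scoped commutatorElement

namespace CfsgLib.CenterPair

universe u

variable {S : Type u} [Group S] [Finite S]

theorem pow_two_mem_frattini {P : Subgroup S} (hP : IsPGroup 2 P) (y : P) : y ^ 2 ∈ frattini P := by
  show _ ∈ Order.radical (Subgroup P)
  simp only [Order.radical, Subgroup.mem_iInf]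
  intro M hM
  haveI : Group.IsNilpotent P := hP.isNilpotent
  haveI hMn : M.Normal := Subgroup.NormalizerCondition.normal_of_coatom M
    (Group.normalizerCondition_of_isNilpotent (G := P)) hM
  have hi : M.index = 2 := by
    obtain ⟨n, hn⟩ := hP.index M
    rcases Nat.eq_zero_or_pos n with rfl | hn0
    · exact absurd (Subgroup.index_eq_one.mp hn) hM.1
    obtain ⟨z, hz⟩ := exists_prime_orderOf_dvd_card' (G := P ⧸ M) 2
      (show 2 ∣ M.index by rw [hn]; exact dvd_pow_self 2 hn0.ne')
    have hlt : M < (Subgroup.zpowers z).comap (QuotientGroup.mk' M) := by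
      refine lt_of_le_of_ne (fun m hm => ?_) fun h => ?_
      · rw [Subgroup.mem_comap, QuotientGroup.mk'_apply, (QuotientGroup.eq_one_iff m).mpr hm]
        exact one_mem _
      · obtain ⟨w, rfl⟩ := QuotientGroup.mk'_surjective M z
        have hw : w ∈ M := by rw [h]; exact Subgroup.mem_zpowers _
        rw [QuotientGroup.mk'_apply, (QuotientGroup.eq_one_iff w).mpr hw, orderOf_one] at hz
        omega
    have htop := hM.2 _ hlt
    have : Subgroup.zpowers z = ⊤ := by
      rw [← Subgroup.map_comap_eq_self_of_surjective (QuotientGroup.mk'_surjective M)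
        (Subgroup.zpowers z), htop, ← MonoidHom.range_eq_map]
      exact MonoidHom.range_eq_top.mpr (QuotientGroup.mk'_surjective M)
    rw [Subgroup.index_eq_card, ← Subgroup.card_top (G := P ⧸ M), ← this, Nat.card_zpowers, hz]
  exact M.pow_index_mem y |> fun h => by rwa [hi] at h

/-- The Frattini quotient of a non-cyclic 2-group has order at least four. -/
theorem four_le_card_quotient {P : Subgroup S} (hP : ¬ IsMulCommutative P) :
    4 ≤ Nat.card (P ⧸ frattini P) ∨ ¬ IsPGroup 2 P := by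
  by_cases h2 : IsPGroup 2 P
  swap; · exact Or.inr h2
  refine Or.inl ?_
  by_contra hlt
  obtain ⟨n, hn⟩ := (h2.to_quotient (frattini P)).exists_card_eq
  have hn1 : n ≤ 1 := by
    by_contra h
    have : 2 ^ 2 ≤ 2 ^ n := Nat.pow_le_pow_right (by norm_num) (by omega)
    omega
  have hcyc : IsCyclic (P ⧸ frattini P) := by
    interval_cases n
    · haveI : Subsingleton (P ⧸ frattini P) := (Nat.card_eq_one_iff_unique.mp (by simpa using hn)).1
      infer_instance
    · haveI := Fact.mk Nat.prime_two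
      exact isCyclic_of_prime_card (p := 2) (by simpa using hn)
  obtain ⟨z, hz⟩ := hcyc.exists_generator
  obtain ⟨y, rfl⟩ := QuotientGroup.mk_surjective z
  have htop : Subgroup.zpowers y ⊔ frattini P = ⊤ := by
    rw [eq_top_iff]
    intro w _
    obtain ⟨i, hi⟩ := Subgroup.mem_zpowers_iff.mp (hz (QuotientGroup.mk w))
    rw [← QuotientGroup.mk_zpow, QuotientGroup.eq] at hi
    rw [show w = y ^ i * ((y ^ i)⁻¹ * w) by group]
    exact mul_mem (Subgroup.mem_sup_left (Subgroup.zpow_mem _ (Subgroup.mem_zpowers y) i))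
      (Subgroup.mem_sup_right hi)
  have hy := frattini_nongenerating htop
  refine hP (.of_comm fun a b => ?_)
  obtain ⟨i, rfl⟩ := Subgroup.mem_zpowers_iff.mp (show a ∈ Subgroup.zpowers y by rw [hy]; trivial)
  obtain ⟨j, rfl⟩ := Subgroup.mem_zpowers_iff.mp (show b ∈ Subgroup.zpowers y by rw [hy]; trivial)
  rw [← zpow_add, ← zpow_add, add_comm]

theorem center_le_frattini {P : Subgroup S} (h2 : IsPGroup 2 P) (hP : ¬ IsMulCommutative P)
    (hZ : Nat.card (Subgroup.center P) = 2) : Subgroup.center P ≤ frattini P := by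
  haveI := Fact.mk Nat.prime_two
  -- the derived subgroup is a non-trivial normal subgroup
  have hc : commutator P ≤ frattini P := by
    rw [commutator_def, Subgroup.commutator_le]
    intro a _ b _
    have : ⁅a, b⁆ = a ^ 2 * (a⁻¹ * b) ^ 2 * (b⁻¹) ^ 2 := by
      rw [commutatorElement_def, pow_two, pow_two, pow_two]; group
    rw [this]
    exact mul_mem (mul_mem (pow_two_mem_frattini h2 _) (pow_two_mem_frattini h2 _))
      (pow_two_mem_frattini h2 _)
  have hne : frattini P ≠ ⊥ := fun h => hP (.of_comm fun a b => by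
    have h1 : ⁅a, b⁆ ∈ frattini P :=
      hc (Subgroup.commutator_mem_commutator (Subgroup.mem_top a) (Subgroup.mem_top b))
    rw [h, Subgroup.mem_bot] at h1
    exact commutatorElement_eq_one_iff_mul_comm.mp h1)
  haveI : Nontrivial (frattini P) := (Subgroup.nontrivial_iff_ne_bot _).mpr hne
  have hmeet := IsPGroup.exists_fixed_point_of_prime_dvd_card_of_fixed_point
    (G := ConjAct P) (p := 2) (α := frattini P) (h2.of_equiv ConjAct.toConjAct)
    (by
      obtain ⟨n, hn⟩ := (h2.to_subgroup (frattini P)).exists_card_eq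
      rw [hn]
      rcases Nat.eq_zero_or_pos n with rfl | h
      · exact absurd (Finite.one_lt_card (α := frattini P)) (by omega)
      · exact dvd_pow_self 2 h.ne')
    (a := (1 : frattini P)) (fun g => Subtype.ext (by simp [ConjAct.Subgroup.val_conj_smul]))
  obtain ⟨⟨z, hz⟩, hfix, hne1⟩ := hmeet
  have hzc : z ∈ Subgroup.center P := Subgroup.mem_center_iff.mpr fun g => by
    have := congrArg Subtype.val (hfix (ConjAct.toConjAct g))
    simp [ConjAct.Subgroup.val_conj_smul, ConjAct.toConjAct_smul] at this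
    exact mul_inv_eq_iff_eq_mul.mp this
  intro w hw
  have hz1 : (⟨z, hzc⟩ : Subgroup.center P) ≠ 1 := fun h => hne1 (Subtype.ext
    (congrArg Subtype.val h).symm)
  obtain ⟨u, v, -, huv⟩ := Nat.card_eq_two_iff.mp hZ
  have hall : ∀ t : Subgroup.center P, t = 1 ∨ t = ⟨z, hzc⟩ := by
    intro t
    have ht : t ∈ ({u, v} : Set _) := by rw [huv]; trivial
    have h1 : (1 : Subgroup.center P) ∈ ({u, v} : Set _) := by rw [huv]; trivial
    have h3 : (⟨z, hzc⟩ : Subgroup.center P) ∈ ({u, v} : Set _) := by rw [huv]; trivial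
    simp only [Set.mem_insert_iff, Set.mem_singleton_iff] at ht h1 h3
    grind
  rcases hall ⟨w, hw⟩ with h | h
  · rw [show w = 1 from congrArg Subtype.val h]; exact one_mem _
  · rw [show w = z from congrArg Subtype.val h]; exact hz

omit [Finite S] in
theorem eq_one_or_eq {P : Subgroup S} (hZ : Nat.card (Subgroup.center P) = 2) {a b : S}
    (ha : a ∈ (Subgroup.center P).map P.subtype) (hb : b ∈ (Subgroup.center P).map P.subtype)
    (ha1 : a ≠ 1) (hb1 : b ≠ 1) : a = b := by
  obtain ⟨x, hx, rfl⟩ := ha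
  obtain ⟨y, hy, rfl⟩ := hb
  obtain ⟨u, v, -, huv⟩ := Nat.card_eq_two_iff.mp hZ
  have h1 : (1 : Subgroup.center P) ∈ ({u, v} : Set _) := by rw [huv]; trivial
  have h2 : (⟨x, hx⟩ : Subgroup.center P) ∈ ({u, v} : Set _) := by rw [huv]; trivial
  have h3 : (⟨y, hy⟩ : Subgroup.center P) ∈ ({u, v} : Set _) := by rw [huv]; trivial
  have hx1 : (⟨x, hx⟩ : Subgroup.center P) ≠ 1 := fun h =>
    ha1 (show P.subtype x = 1 from congrArg (fun t : Subgroup.center P => ((t : P) : S)) h)
  have hy1 : (⟨y, hy⟩ : Subgroup.center P) ≠ 1 := fun h =>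
    hb1 (show P.subtype y = 1 from congrArg (fun t : Subgroup.center P => ((t : P) : S)) h)
  simp only [Set.mem_insert_iff, Set.mem_singleton_iff] at h1 h2 h3
  have : (⟨x, hx⟩ : Subgroup.center P) = ⟨y, hy⟩ := by grind
  exact congrArg (fun t : Subgroup.center P => ((t : P) : S)) this

/-- Two normal subgroups with different centres of order two meet trivially. -/
theorem inf_eq_bot (h2 : IsPGroup 2 S) (P Q : Subgroup S) [P.Normal] [Q.Normal]
    (hZP : Nat.card (Subgroup.center P) = 2) (hZQ : Nat.card (Subgroup.center Q) = 2)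
    (hne : (Subgroup.center P).map P.subtype ≠ (Subgroup.center Q).map Q.subtype) : P ⊓ Q = ⊥ := by
  haveI := Fact.mk Nat.prime_two
  by_contra h
  haveI : Nontrivial (P ⊓ Q : Subgroup S) := (Subgroup.nontrivial_iff_ne_bot _).mpr h
  haveI : (P ⊓ Q).Normal := Subgroup.normal_inf_normal _ _
  obtain ⟨n, hn⟩ := (h2.to_subgroup (P ⊓ Q)).exists_card_eq
  have hdvd : 2 ∣ Nat.card (P ⊓ Q : Subgroup S) := by
    rw [hn]
    rcases Nat.eq_zero_or_pos n with rfl | h'
    · exact absurd (Finite.one_lt_card (α := (P ⊓ Q : Subgroup S))) (by omega)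
    · exact dvd_pow_self 2 h'.ne'
  obtain ⟨⟨z, hzP, hzQ⟩, hfix, hne1⟩ := IsPGroup.exists_fixed_point_of_prime_dvd_card_of_fixed_point
    (G := ConjAct S) (p := 2) (α := (P ⊓ Q : Subgroup S)) (h2.of_equiv ConjAct.toConjAct) hdvd
    (a := 1) (fun g => Subtype.ext (by simp [ConjAct.Subgroup.val_conj_smul]))
  have hz : ∀ s : S, s * z = z * s := fun s => by
    have := congrArg Subtype.val (hfix (ConjAct.toConjAct s))
    simp [ConjAct.Subgroup.val_conj_smul, ConjAct.toConjAct_smul] at this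
    exact mul_inv_eq_iff_eq_mul.mp this
  have hz1 : z ≠ 1 := fun h0 => hne1 (Subtype.ext h0.symm)
  have hP : z ∈ (Subgroup.center P).map P.subtype :=
    ⟨⟨z, hzP⟩, Subgroup.mem_center_iff.mpr fun g => Subtype.ext (hz g), rfl⟩
  have hQ : z ∈ (Subgroup.center Q).map Q.subtype :=
    ⟨⟨z, hzQ⟩, Subgroup.mem_center_iff.mpr fun g => Subtype.ext (hz g), rfl⟩
  refine hne (le_antisymm (fun a ha => ?_) (fun a ha => ?_))
  · rcases eq_or_ne a 1 with rfl | ha1
    · exact one_mem _
    · rw [eq_one_or_eq hZP ha hP ha1 hz1]; exact hQ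
  · rcases eq_or_ne a 1 with rfl | ha1
    · exact one_mem _
    · rw [eq_one_or_eq hZQ ha hQ ha1 hz1]; exact hP

theorem commutator_eq_bot (h2 : IsPGroup 2 S) (P Q : Subgroup S) [P.Normal] [Q.Normal]
    (hZP : Nat.card (Subgroup.center P) = 2) (hZQ : Nat.card (Subgroup.center Q) = 2)
    (hne : (Subgroup.center P).map P.subtype ≠ (Subgroup.center Q).map Q.subtype) : ⁅P, Q⁆ = ⊥ :=
  le_bot_iff.mp ((Subgroup.commutator_le_inf P Q).trans (inf_eq_bot h2 P Q hZP hZQ hne).le)

/-- The product contains its centraliser. -/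
theorem centralizer_sup_le (h2 : IsPGroup 2 S) (hr : Cfsg.SectionalPRankLE 2 4 S)
    (P Q : Subgroup S) [P.Normal] [Q.Normal] (hP : ¬ IsMulCommutative P) (hQ : ¬ IsMulCommutative Q)
    (hZP : Nat.card (Subgroup.center P) = 2) (hZQ : Nat.card (Subgroup.center Q) = 2)
    (hne : (Subgroup.center P).map P.subtype ≠ (Subgroup.center Q).map Q.subtype) :
    Subgroup.centralizer ((P ⊔ Q : Subgroup S) : Set S) ≤ P ⊔ Q := by
  classical
  haveI := Fact.mk Nat.prime_two
  have hd := inf_eq_bot h2 P Q hZP hZQ hne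
  have hcomm : ∀ a ∈ P, ∀ b ∈ Q, a * b = b * a := fun a ha b hb =>
    commutatorElement_eq_one_iff_mul_comm.mp (Subgroup.mem_bot.mp
      (commutator_eq_bot h2 P Q hZP hZQ hne ▸ Subgroup.commutator_mem_commutator ha hb))
  intro x hx
  by_contra hxW
  set W := P ⊔ Q with hW
  haveI : W.Normal := inferInstance
  obtain ⟨k, hk⟩ := h2 x
  -- an element whose square lies in `W`
  obtain ⟨y, hy, hyW, hy2⟩ : ∃ y ∈ Subgroup.centralizer (W : Set S), y ∉ W ∧ y ^ 2 ∈ W := by
    have hex : ∃ j, x ^ (2 ^ j) ∈ W := ⟨k, by rw [hk]; exact one_mem _⟩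
    have h0 := Nat.find_spec hex
    rcases Nat.eq_zero_or_eq_succ_pred (Nat.find hex) with h | h
    · rw [h, pow_zero, pow_one] at h0; exact absurd h0 hxW
    · refine ⟨x ^ (2 ^ (Nat.find hex).pred), Subgroup.pow_mem _ hx _,
        Nat.find_min hex (by omega), ?_⟩
      rw [← pow_mul, ← pow_succ, ← Nat.succ_eq_add_one, ← h]
      exact h0
  have hdec : ∀ w ∈ W, ∃ a ∈ P, ∃ b ∈ Q, a * b = w := fun w hw => by
    rw [hW, ← SetLike.mem_coe, Subgroup.mul_normal P Q] at hw
    exact hw
  set ΦP := (frattini P).map P.subtype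
  set ΦQ := (frattini Q).map Q.subtype
  -- the square of `y` is a product of central elements
  have hy2N : y ^ 2 ∈ ΦP ⊔ ΦQ := by
    obtain ⟨a, ha, b, hb, hab⟩ := hdec _ hy2
    have hwc : ∀ w ∈ W, w * (a * b) = a * b * w := fun w hw => by
      rw [hab]; exact (Subgroup.pow_mem _ hy 2 : y ^ 2 ∈ _) w hw
    have hza : (⟨a, ha⟩ : P) ∈ Subgroup.center P := Subgroup.mem_center_iff.mpr fun g => by
      refine Subtype.ext ?_
      have h1 := hwc g (Subgroup.mem_sup_left g.2)
      rw [← mul_assoc, mul_assoc a b, ← hcomm g g.2 b hb, ← mul_assoc] at h1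
      exact mul_right_cancel h1
    have hzb : (⟨b, hb⟩ : Q) ∈ Subgroup.center Q := Subgroup.mem_center_iff.mpr fun g => by
      refine Subtype.ext ?_
      have h1 := hwc g (Subgroup.mem_sup_right g.2)
      rw [← mul_assoc, ← hcomm a ha g g.2, mul_assoc, mul_assoc] at h1
      exact mul_left_cancel h1
    rw [← hab]
    exact mul_mem
      (Subgroup.mem_sup_left ⟨_, center_le_frattini (h2.to_subgroup P) hP hZP hza, rfl⟩)
      (Subgroup.mem_sup_right ⟨_, center_le_frattini (h2.to_subgroup Q) hQ hZQ hzb, rfl⟩)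
  set H := W ⊔ Subgroup.zpowers y with hH
  set N := ΦP ⊔ ΦQ with hN
  have hPW : P ≤ W := le_sup_left
  have hQW : Q ≤ W := le_sup_right
  have hΦP : ΦP ≤ P := Subgroup.map_subtype_le _
  have hΦQ : ΦQ ≤ Q := Subgroup.map_subtype_le _
  have hNW : N ≤ W := sup_le_sup hΦP hΦQ
  haveI : ΦP.Normal := ConjAct.normal_of_characteristic_of_normal
  haveI : ΦQ.Normal := ConjAct.normal_of_characteristic_of_normal
  haveI : (N.subgroupOf H).Normal := Subgroup.Normal.subgroupOf inferInstance H
  -- the section is elementary abelian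
  have hgen : ∀ s ∈ (P : Set S) ∪ Q ∪ {y}, ∀ t ∈ (P : Set S) ∪ Q ∪ {y}, ⁅s, t⁆ ∈ N := by
    have hPP : ∀ s ∈ P, ∀ t ∈ P, ⁅s, t⁆ ∈ N := fun s hs t ht => by
      refine Subgroup.mem_sup_left ⟨⁅(⟨s, hs⟩ : P), (⟨t, ht⟩ : P)⁆, ?_, by rw [map_commutatorElement]; rfl⟩
      have : ⁅(⟨s, hs⟩ : P), (⟨t, ht⟩ : P)⁆ = (⟨s, hs⟩ : P) ^ 2 * ((⟨s, hs⟩ : P)⁻¹ * ⟨t, ht⟩) ^ 2 *
          ((⟨t, ht⟩ : P)⁻¹) ^ 2 := by
        rw [commutatorElement_def, pow_two, pow_two, pow_two]; group
      rw [this]
      have h2P := h2.to_subgroup P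
      exact mul_mem (mul_mem (pow_two_mem_frattini h2P _) (pow_two_mem_frattini h2P _))
        (pow_two_mem_frattini h2P _)
    have hQQ : ∀ s ∈ Q, ∀ t ∈ Q, ⁅s, t⁆ ∈ N := fun s hs t ht => by
      refine Subgroup.mem_sup_right ⟨⁅(⟨s, hs⟩ : Q), (⟨t, ht⟩ : Q)⁆, ?_, by rw [map_commutatorElement]; rfl⟩
      have : ⁅(⟨s, hs⟩ : Q), (⟨t, ht⟩ : Q)⁆ = (⟨s, hs⟩ : Q) ^ 2 * ((⟨s, hs⟩ : Q)⁻¹ * ⟨t, ht⟩) ^ 2 *
          ((⟨t, ht⟩ : Q)⁻¹) ^ 2 := by
        rw [commutatorElement_def, pow_two, pow_two, pow_two]; group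
      rw [this]
      have h2Q := h2.to_subgroup Q
      exact mul_mem (mul_mem (pow_two_mem_frattini h2Q _) (pow_two_mem_frattini h2Q _))
        (pow_two_mem_frattini h2Q _)
    have hPQ : ∀ s ∈ P, ∀ t ∈ Q, ⁅s, t⁆ ∈ N := fun s hs t ht => by
      rw [commutatorElement_eq_one_iff_mul_comm.mpr (hcomm s hs t ht)]; exact one_mem _
    have hyW' : ∀ w ∈ W, ⁅w, y⁆ ∈ N := fun w hw => by
      rw [commutatorElement_eq_one_iff_mul_comm.mpr (hy w hw)]; exact one_mem _
    rintro s ((hs | hs) | hs) t ((ht | ht) | ht)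
    · exact hPP s hs t ht
    · exact hPQ s hs t ht
    · rw [Set.mem_singleton_iff.mp ht]; exact hyW' s (hPW hs)
    · rw [← inv_mem_iff, commutatorElement_inv]; exact hPQ t ht s hs
    · exact hQQ s hs t ht
    · rw [Set.mem_singleton_iff.mp ht]; exact hyW' s (hQW hs)
    · rw [Set.mem_singleton_iff.mp hs, ← inv_mem_iff, commutatorElement_inv]; exact hyW' t (hPW ht)
    · rw [Set.mem_singleton_iff.mp hs, ← inv_mem_iff, commutatorElement_inv]; exact hyW' t (hQW ht)
    · rw [Set.mem_singleton_iff.mp hs, Set.mem_singleton_iff.mp ht, commutatorElement_self]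
      exact one_mem _
  have hclo : H = Subgroup.closure ((P : Set S) ∪ Q ∪ {y}) := by
    rw [Subgroup.closure_union, Subgroup.closure_union, Subgroup.closure_eq, Subgroup.closure_eq,
      ← Subgroup.zpowers_eq_closure]
  set π := QuotientGroup.mk' N
  have hHcomm : ∀ a ∈ H.map π, ∀ b ∈ H.map π, a * b = b * a := by
    rw [hclo, MonoidHom.map_closure]
    intro a ha b hb
    refine Subgroup.closure_induction₂ (p := fun a b _ _ => a * b = b * a) ?_ ?_ ?_ ?_ ?_ ?_ ?_ ha hb
    · rintro _ _ ⟨s, hs, rfl⟩ ⟨t, ht, rfl⟩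
      rw [← commutatorElement_eq_one_iff_mul_comm, ← map_commutatorElement]
      exact (QuotientGroup.eq_one_iff _).mpr (hgen s hs t ht)
    · intro a _; rw [one_mul, mul_one]
    · intro a _; rw [one_mul, mul_one]
    · intro a b c _ _ _ h1 h2; exact (Commute.mul_left h1 h2)
    · intro a b c _ _ _ h1 h2; exact (Commute.mul_right h1 h2)
    · intro a b _ _ h; exact (Commute.inv_left h)
    · intro a b _ _ h; exact (Commute.inv_right h)
  have hsq : ∀ a ∈ H.map π, a ^ 2 = 1 := by
    intro a ha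
    rw [hclo, MonoidHom.map_closure] at ha
    have hcl : Subgroup.closure (π '' ((P : Set S) ∪ Q ∪ {y})) = H.map π := by
      rw [hclo, MonoidHom.map_closure]
    induction ha using Subgroup.closure_induction with
    | mem z hz =>
      obtain ⟨s, hs, rfl⟩ := hz
      rw [← map_pow]
      refine (QuotientGroup.eq_one_iff _).mpr ?_
      rcases hs with (hs | hs) | hs
      · exact Subgroup.mem_sup_left ⟨_, pow_two_mem_frattini (h2.to_subgroup P) ⟨s, hs⟩, rfl⟩
      · exact Subgroup.mem_sup_right ⟨_, pow_two_mem_frattini (h2.to_subgroup Q) ⟨s, hs⟩, rfl⟩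
      · rw [Set.mem_singleton_iff.mp hs]; exact hy2N
    | one => rw [one_pow]
    | mul a b ha hb ha2 hb2 =>
      rw [(show Commute a b from hHcomm a (hcl ▸ ha) b (hcl ▸ hb)).mul_pow, ha2, hb2, one_mul]
    | inv a _ ha2 => rw [inv_pow, ha2, inv_one]
  -- its order exceeds sixteen
  have hcardW : 16 ≤ Nat.card (W.map π) := by
    let f : P × Q →* S :=
      { toFun := fun v => (v.1 : S) * v.2
        map_one' := by simp
        map_mul' := fun u v => by
          show ((u.1 * v.1 : P) : S) * ((u.2 * v.2 : Q) : S) = _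
          rw [Subgroup.coe_mul, Subgroup.coe_mul, mul_assoc (u.1 : S), ← mul_assoc (v.1 : S),
            hcomm v.1 v.1.2 u.2 u.2.2, mul_assoc (u.2 : S), ← mul_assoc (u.1 : S)] }
    have hf : Function.Injective f := by
      rw [injective_iff_map_eq_one]
      intro v hv
      have h1 : (v.1 : S) = (v.2 : S)⁻¹ := eq_inv_of_mul_eq_one_left hv
      have h3 : (v.1 : S) ∈ P ⊓ Q := ⟨v.1.2, h1 ▸ Q.inv_mem v.2.2⟩
      rw [hd, Subgroup.mem_bot] at h3
      refine Prod.ext (Subtype.ext h3) (Subtype.ext ?_)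
      rw [h3] at h1
      exact inv_eq_one.mp h1.symm
    let g := π.comp f
    have hker : g.ker = (frattini P).prod (frattini Q) := by
      ext ⟨a, b⟩
      rw [MonoidHom.mem_ker, Subgroup.mem_prod]
      constructor
      · intro h
        have h1 : (a : S) * b ∈ N := (QuotientGroup.eq_one_iff _).mp h
        rw [hN, ← SetLike.mem_coe, Subgroup.mul_normal ΦP ΦQ] at h1
        obtain ⟨_, ⟨u, hu, rfl⟩, _, ⟨v, hv, rfl⟩, huv⟩ := h1
        obtain ⟨ha', hb'⟩ := Prod.ext_iff.mp (@hf (u, v) (a, b) huv)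
        exact ⟨ha' ▸ hu, hb' ▸ hv⟩
      · rintro ⟨ha, hb⟩
        exact (QuotientGroup.eq_one_iff _).mpr (mul_mem
          (Subgroup.mem_sup_left ⟨a, ha, rfl⟩) (Subgroup.mem_sup_right ⟨b, hb, rfl⟩))
    have hrange : g.range ≤ W.map π := by
      rintro _ ⟨v, rfl⟩
      exact Subgroup.mem_map_of_mem π (mul_mem (hPW v.1.2) (hQW v.2.2))
    refine le_trans ?_ (Subgroup.card_le_of_le hrange)
    rw [← Subgroup.index_ker, hker, Subgroup.index_prod, Subgroup.index_eq_card,
      Subgroup.index_eq_card]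
    have a4 := (four_le_card_quotient hP).resolve_right (fun h => h (h2.to_subgroup P))
    have b4 := (four_le_card_quotient hQ).resolve_right (fun h => h (h2.to_subgroup Q))
    nlinarith
  have hbig : 16 < Nat.card (H.map π) := by
    refine lt_of_le_of_lt hcardW ?_
    refine Set.Finite.card_lt_card (Set.toFinite _) (show W.map π < H.map π from
      lt_of_le_of_ne (Subgroup.map_mono le_sup_left) fun h => hyW ?_)
    have h1 : π y ∈ W.map π := by
      rw [h]; exact Subgroup.mem_map_of_mem π (Subgroup.mem_sup_right (Subgroup.mem_zpowers y))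
    obtain ⟨w, hw, hwy⟩ := h1
    have h3 : y⁻¹ * w ∈ N := QuotientGroup.eq.mp hwy.symm
    have : y = w * (y⁻¹ * w)⁻¹ := by group
    rw [this]
    exact mul_mem hw (inv_mem (hNW h3))
  have hle := hr H (N.subgroupOf H)
  let φ : H →* S ⧸ N := π.comp H.subtype
  have hφker : N.subgroupOf H = φ.ker := by
    rw [← MonoidHom.comap_ker, QuotientGroup.ker_mk']
    rfl
  let e : (H ⧸ N.subgroupOf H) ≃* H.map π :=
    (QuotientGroup.quotientMulEquivOfEq hφker).trans
      ((QuotientGroup.quotientKerEquivRange φ).trans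
        (MulEquiv.subgroupCongr (by
          rw [MonoidHom.range_eq_map, ← Subgroup.map_map, ← MonoidHom.range_eq_map,
            Subgroup.range_subtype])))
  have h16 := hle ⊤ (.of_comm fun a b => Subtype.ext (e.injective (Subtype.ext (by
      rw [Subgroup.coe_mul, Subgroup.coe_mul, map_mul, map_mul]
      exact hHcomm _ (e a).2 _ (e b).2))))
    (fun a _ => e.injective (Subtype.ext (by
      rw [map_pow, SubmonoidClass.coe_pow, map_one, OneMemClass.coe_one]
      exact hsq _ (e a).2)))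
  rw [Subgroup.card_top, Nat.card_congr e.toEquiv] at h16
  omega

end CfsgLib.CenterPair
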